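import Groth.Agent.Desc19b.SubmTop.Sect
import Groth.Agent.Desc19b.SiteRes.SectEt
import Groth.Agent.Desc19b.SiteRes.Big
import Groth.Agent.Et18.Fppf.ProperPush
import Groth.Agent.FlatMor12.PhCover

/-!
# Inverse images of étale sheaves to the big `ph` and `h` sites
-/

set_option autoImplicit false
set_option backward.isDefEq.respectTransparency.types false
set_option backward.isDefEq.respectTransparency false
set_option linter.style.haveILetI false
set_option linter.all false
set_option synthInstance.maxHeartbeats 200000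

universe u

open CategoryTheory CategoryTheory.Limits AlgebraicGeometry Opposite

namespace Groth.Agent.Desc19b.SubmTop

variable {X Y : Scheme.{u}}

theorem etaleTopology_le_hTopology : Scheme.etaleTopology.{u} ≤ HTop.hTopology := by
  refine Precoverage.toGrothendieck_le_iff_le_toPrecoverage.2 fun T R hR => ?_
  obtain ⟨ι, Z, g, rfl⟩ := Presieve.exists_eq_ofArrows R
  obtain ⟨hs, he⟩ := (Scheme.ofArrows_mem_precoverage_iff @Etale).1 hR
  rw [GrothendieckTopology.mem_toPrecoverage_iff]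
  let E : PreZeroHypercover.{u + 1} T := ⟨ι, Z, g⟩
  refine Precoverage.generate_mem_toGrothendieck ((HTop.presieve₀_mem_hPrecoverage_iff E).2 ⟨fun i => ?_, ?_⟩)
  · have := he i
    exact inferInstanceAs (LocallyOfFinitePresentation (g i))
  · refine HTop16.HSheaf.isVCover_of_isPhCover (FlatMor12.isPhCover_of_fppf E (fun i => ?_) (fun i => ?_) hs)
    · have := he i
      exact inferInstanceAs (Flat (g i))
    · have := he i
      exact inferInstanceAs (LocallyOfFinitePresentation (g i))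

theorem etaleTopology_le_phTopology : Scheme.etaleTopology.{u} ≤ HTop.phTopology := by
  refine Precoverage.toGrothendieck_le_iff_le_toPrecoverage.2 fun T R hR => ?_
  obtain ⟨ι, Z, g, rfl⟩ := Presieve.exists_eq_ofArrows R
  obtain ⟨hs, he⟩ := (Scheme.ofArrows_mem_precoverage_iff @Etale).1 hR
  rw [GrothendieckTopology.mem_toPrecoverage_iff]
  let E : PreZeroHypercover.{u + 1} T := ⟨ι, Z, g⟩
  refine Precoverage.generate_mem_toGrothendieck ((HTop.presieve₀_mem_phPrecoverage_iff E).2
    (FlatMor12.isPhCover_of_fppf E (fun i => ?_) (fun i => ?_) hs))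
  · have := he i
    exact inferInstanceAs (Flat (g i))
  · have := he i
    exact inferInstanceAs (LocallyOfFinitePresentation (g i))

variable (K : GrothendieckTopology (Over X)) (hK : K ≤ topology.over X)

/-- The sheaf of sections for a topology below the submersive one. -/
noncomputable def sectSheafK (F : EtCoh.Ab X) : Sheaf K AddCommGrpCat.{u + 1} :=
  ⟨Et18.Fppf.sectPresheaf F, fun E => Presieve.isSheaf_of_le _ hK (isSheaf_subm_sectPresheaf F E)⟩

variable [(EtFppf.a X).IsContinuous X.smallEtaleTopology K]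
  [((EtFppf.a X).sheafPushforwardContinuous AddCommGrpCat.{u + 1} X.smallEtaleTopology K).IsRightAdjoint]
  (het : QuotSh.J Scheme.etalePrecoverage X ≤ K)

include het in
/-- The inverse image for such a topology is the sheaf of sections. -/
theorem nonempty_pullIso (F : EtCoh.Ab X) :
    Nonempty (((EtFppf.a X).sheafPullback AddCommGrpCat.{u + 1} X.smallEtaleTopology K).obj F ≅
      sectSheafK K hK F) := by
  let adj := (EtFppf.a X).sheafAdjunctionContinuous AddCommGrpCat.{u + 1} X.smallEtaleTopology K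
  let res := (EtFppf.a X).sheafPushforwardContinuous AddCommGrpCat.{u + 1} X.smallEtaleTopology K
  let P := ((EtFppf.a X).sheafPullback AddCommGrpCat.{u + 1} X.smallEtaleTopology K).obj F
  let asEt : Sheaf K AddCommGrpCat.{u + 1} → BigSite.Ab Scheme.etalePrecoverage X := fun H =>
    ⟨H.obj, fun E => Presieve.isSheaf_of_le _ het (H.property E)⟩
  let u₀ : F ⟶ res.obj (sectSheafK K hK F) := ⟨(SiteRes.SectEt.sectUnit F).hom⟩
  let φ : F ⟶ (BigSite.resEt Scheme.etalePrecoverage X).obj (asEt P) := ⟨(adj.unit.app F).hom⟩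
  let θ : P ⟶ sectSheafK K hK F := (adj.homEquiv _ _).symm u₀
  let ψ : sectSheafK K hK F ⟶ P := ⟨(SiteRes.SectEt.descHom φ).hom⟩
  have hψ : u₀ ≫ res.map ψ = adj.unit.app F := by
    have h := SiteRes.SectEt.sectUnit_descHom φ
    exact Sheaf.hom_ext (congrArg (fun k => k.hom) h)
  refine ⟨⟨θ, ψ, ?_, ?_⟩⟩
  · apply (adj.homEquiv _ _).injective
    rw [Adjunction.homEquiv_naturality_right, Equiv.apply_symm_apply, hψ, Adjunction.homEquiv_id]
  · have hu : u₀ ≫ res.map (ψ ≫ θ) = u₀ := by
      rw [Functor.map_comp, ← Category.assoc, hψ, ← Adjunction.homEquiv_unit, Equiv.apply_symm_apply]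
    refine Sheaf.hom_ext (NatTrans.ext (funext fun T => ?_))
    ext σ
    choose R q U m t he hy hr using SiteRes.SectEt.exists_rep (F := F) (T := T.unop) σ
    refine SiteRes.SectEt.ext_of_etale (SiteRes.SectEt.sectSheafEt F) (fun y : ULift.{u + 1} T.unop.left => R y.down)
      (fun y => q y.down) (fun y => he y.down) (fun y => ⟨⟨y⟩, hy y⟩) _ _ fun y => ?_
    change (Et18.Fppf.sectPresheaf F).map (q y.down).op ((ψ ≫ θ).hom.app T σ) =
      Et18.Fppf.res (q y.down) σ
    refine (ConcreteCategory.congr_hom ((ψ ≫ θ).hom.naturality (q y.down).op) _).symm.trans ?_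
    change (ψ ≫ θ).hom.app (op (R y.down)) (Et18.Fppf.res (q y.down) σ) = Et18.Fppf.res (q y.down) σ
    rw [hr y.down]
    refine (ConcreteCategory.congr_hom ((ψ ≫ θ).hom.naturality (m y.down).op) _).trans ?_
    refine congrArg (Et18.Fppf.res (m y.down)) ?_
    exact ConcreteCategory.congr_hom (congrArg (fun k => k.hom.app (op (U y.down))) hu) (t y.down)

omit [(EtFppf.a X).IsContinuous X.smallEtaleTopology K]
  [((EtFppf.a X).sheafPushforwardContinuous AddCommGrpCat.{u + 1} X.smallEtaleTopology K).IsRightAdjoint] in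
theorem pushPresheafIso (f : X ⟶ Y) [IsProper f] (F : EtCoh.Ab X) :
    Nonempty (Et18.Fppf.sectPresheaf ((EtCoh.push f).obj F) ≅ (Over.pullback f).op ⋙ Et18.Fppf.sectPresheaf F) := by
  have := Et18.Fppf.isIso_descHom_pushUnit (f := f) (F := F)
  exact ⟨(sheafToPresheaf _ _).mapIso (asIso (Et18.Fppf.descHom (Et18.Fppf.pushUnit f F)))⟩

theorem ph_le : HTop.Jph X ≤ topology.over X := SiteRes.SectEt.over_mono X phTopology_le

theorem h_le : HTop.Jh X ≤ topology.over X := SiteRes.SectEt.over_mono X hTopology_le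

theorem et_le_ph : QuotSh.J Scheme.etalePrecoverage X ≤ HTop.Jph X :=
  SiteRes.SectEt.over_mono X etaleTopology_le_phTopology

theorem et_le_h : QuotSh.J Scheme.etalePrecoverage X ≤ HTop.Jh X :=
  SiteRes.SectEt.over_mono X etaleTopology_le_hTopology

theorem nonempty_sections_aPhPull [HTop.APhCont X] (F : EtCoh.Ab X) {T : Scheme.{u}} (f : T ⟶ X) :
    Nonempty (((HTop.aPhPull X).obj F).obj.obj (op (Over.mk f)) ≅
      ((EtCoh.pull f).obj F).obj.obj (op (EtCoh.top T))) := by
  obtain ⟨e⟩ := nonempty_pullIso (HTop.Jph X) ph_le et_le_ph F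
  exact ⟨((sheafToPresheaf _ _).mapIso e).app (op (Over.mk f))⟩

theorem nonempty_sections_aHPull [HTop.AHCont X] (F : EtCoh.Ab X) {T : Scheme.{u}} (f : T ⟶ X) :
    Nonempty (((HTop.aHPull X).obj F).obj.obj (op (Over.mk f)) ≅
      ((EtCoh.pull f).obj F).obj.obj (op (EtCoh.top T))) := by
  obtain ⟨e⟩ := nonempty_pullIso (HTop.Jh X) h_le et_le_h F
  exact ⟨((sheafToPresheaf _ _).mapIso e).app (op (Over.mk f))⟩

theorem nonempty_aPhPull_push (f : X ⟶ Y) [IsProper f] [HTop.APhCont X] [HTop.APhCont Y] [HTop.PullPhCont f]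
    (F : EtCoh.Ab X) :
    Nonempty ((HTop.aPhPull Y).obj ((EtCoh.push f).obj F) ≅ (HTop.pushBigPh f).obj ((HTop.aPhPull X).obj F)) := by
  obtain ⟨e₁⟩ := nonempty_pullIso (HTop.Jph Y) ph_le et_le_ph ((EtCoh.push f).obj F)
  obtain ⟨e₂⟩ := nonempty_pullIso (HTop.Jph X) ph_le et_le_ph F
  obtain ⟨p⟩ := pushPresheafIso f F
  exact ⟨e₁ ≪≫ (fullyFaithfulSheafToPresheaf _ _).preimageIso
    (X := sectSheafK (HTop.Jph Y) ph_le ((EtCoh.push f).obj F))
    (Y := (HTop.pushBigPh f).obj (sectSheafK (HTop.Jph X) ph_le F)) p ≪≫ (HTop.pushBigPh f).mapIso e₂.symm⟩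

theorem nonempty_aHPull_push (f : X ⟶ Y) [IsProper f] [HTop.AHCont X] [HTop.AHCont Y] [HTop.PullHCont f]
    (F : EtCoh.Ab X) :
    Nonempty ((HTop.aHPull Y).obj ((EtCoh.push f).obj F) ≅ (HTop.pushBigH f).obj ((HTop.aHPull X).obj F)) := by
  obtain ⟨e₁⟩ := nonempty_pullIso (HTop.Jh Y) h_le et_le_h ((EtCoh.push f).obj F)
  obtain ⟨e₂⟩ := nonempty_pullIso (HTop.Jh X) h_le et_le_h F
  obtain ⟨p⟩ := pushPresheafIso f F
  exact ⟨e₁ ≪≫ (fullyFaithfulSheafToPresheaf _ _).preimageIso
    (X := sectSheafK (HTop.Jh Y) h_le ((EtCoh.push f).obj F))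
    (Y := (HTop.pushBigH f).obj (sectSheafK (HTop.Jh X) h_le F)) p ≪≫ (HTop.pushBigH f).mapIso e₂.symm⟩

end Groth.Agent.Desc19b.SubmTop
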