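import Groth.Agent.HTop16.Subm
import Groth.Agent.HTop16.HSheaf

/-!
# The submersive topology
-/

set_option autoImplicit false
set_option backward.isDefEq.respectTransparency.types false
set_option backward.isDefEq.respectTransparency false
set_option linter.all false

universe u

open CategoryTheory CategoryTheory.Limits AlgebraicGeometry

namespace Groth.Agent.Desc19b.SubmTop

/-- Sieves which are universally surjective and submersive as families. -/
structure Good {T : Scheme.{u}} (R : Sieve T) : Prop where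
  surj : ∀ (Z : Scheme.{u}) (z : Z ⟶ T) (w : Z), ∃ (P : Scheme.{u}) (p : P ⟶ Z), R (p ≫ z) ∧ w ∈ Set.range p
  isOpen : ∀ (Z : Scheme.{u}) (z : Z ⟶ T) (O : Set Z),
    (∀ (P : Scheme.{u}) (p : P ⟶ Z), R (p ≫ z) → IsOpen (p ⁻¹' O)) → IsOpen O

/-- The submersive topology. -/
def topology : GrothendieckTopology Scheme.{u} where
  sieves T := {R | Good R}
  top_mem' T := ⟨fun Z z w => ⟨Z, 𝟙 Z, trivial, w, rfl⟩, fun Z z O h => h Z (𝟙 Z) trivial⟩
  pullback_stable' := fun {T T'} R f hR => ⟨fun Z z w => by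
      obtain ⟨P, p, hp, hw⟩ := hR.surj Z (z ≫ f) w
      exact ⟨P, p, show R ((p ≫ z) ≫ f) by rwa [Category.assoc], hw⟩,
    fun Z z O h => hR.isOpen Z (z ≫ f) O fun P p hp =>
      h P p (show R ((p ≫ z) ≫ f) by rwa [Category.assoc])⟩
  transitive' := fun {T} R hR R' h => ⟨fun Z z w => by
      obtain ⟨P, p, hp, w', rfl⟩ := hR.surj Z z w
      obtain ⟨Q, q, hq, w'', rfl⟩ := (h hp).surj P (𝟙 P) w'
      refine ⟨Q, q ≫ p, ?_, w'', rfl⟩
      rw [Category.assoc]
      simpa using hq,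
    fun Z z O hO => hR.isOpen Z z O fun P p hp => (h hp).isOpen P (𝟙 P) _ fun Q q hq => by
      have := hO Q (q ≫ p) (by rw [Category.assoc]; simpa using hq)
      exact this⟩

theorem good_of_isVCover {T : Scheme.{u}} (E : PreZeroHypercover.{u + 1} T) (hE : HTop.IsVCover E) :
    Good (Sieve.generate E.presieve₀) := by
  have key : ∀ (Z : Scheme.{u}) (z : Z ⟶ T) (W : Z.Opens), IsAffineOpen W →
      ∃ (κ : Type u) (A : κ → Scheme.{u}) (g : ∀ k, A k ⟶ W.toScheme),
        (∀ k, Sieve.generate E.presieve₀ ((g k ≫ W.ι) ≫ z)) ∧ Topology.IsQuotientMap (Sigma.desc g) := by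
    intro Z z W hW
    haveI : IsAffine W.toScheme := hW
    obtain ⟨G, hG, hr⟩ := HTop16.VCover.exists_standardV_refinesOver hE (W.ι ≫ z)
    let G' : PreZeroHypercover.{u} W.toScheme :=
      { I₀ := ULift.{u} G.I₀, X := fun j => G.X j.down, f := fun j => G.f j.down }
    have hG' : HTop.IsVCover G' := fun U => by
      haveI : IsAffine (U.1 : Scheme.{u}) := U.2
      refine ⟨G.pullback₁ U.1.ι, HTop16.VCover.isStandardV_pullback _ hG, fun j => ⟨⟨j⟩, pullback.snd _ _, ?_⟩⟩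
      exact pullback.condition.symm
    refine ⟨G'.I₀, G'.X, G'.f, fun k => ?_,
      HTop16.VCover.univSubmersive_sigmaDesc G' hG' (𝟙 _) (𝟙 _) (Sigma.desc G'.f) (IsPullback.id_vert _)⟩
    obtain ⟨i, a, ha⟩ := hr k.down
    refine ⟨E.X i, a, E.f i, Presieve.ofArrows.mk i, ?_⟩
    rw [ha, Category.assoc]
  refine ⟨fun Z z w => ?_, fun Z z O h => ?_⟩
  · obtain ⟨W, hW, hwW, -⟩ := exists_isAffineOpen_mem_and_subset (X := Z) (x := w) (U := ⊤) trivial
    obtain ⟨κ, A, g, hg, hq⟩ := key Z z W hW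
    obtain ⟨s, hs⟩ := hq.surjective ⟨w, hwW⟩
    obtain ⟨k, y, rfl⟩ := (sigmaOpenCover A).exists_eq s
    refine ⟨A k, g k ≫ W.ι, hg k, y, ?_⟩
    have : Sigma.ι A k ≫ Sigma.desc g = g k := Sigma.ι_desc _ _
    rw [← this]
    exact congrArg Subtype.val hs
  · rw [isOpen_iff_forall_mem_open]
    intro w hw
    obtain ⟨W, hW, hwW, -⟩ := exists_isAffineOpen_mem_and_subset (X := Z) (x := w) (U := ⊤) trivial
    obtain ⟨κ, A, g, hg, hq⟩ := key Z z W hW
    have ho : IsOpen (W.ι ⁻¹' O) := by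
      rw [← hq.isOpen_preimage]
      have e : Sigma.desc g ⁻¹' (W.ι ⁻¹' O) = ⋃ k, Sigma.ι A k '' ((g k ≫ W.ι) ⁻¹' O) := by
        ext s
        obtain ⟨k, y, rfl⟩ := (sigmaOpenCover A).exists_eq s
        have he : ∀ l y, W.ι (Sigma.desc g (Sigma.ι A l y)) = (g l ≫ W.ι) y := fun l y => by
          rw [show Sigma.desc g (Sigma.ι A l y) = g l y by rw [← Scheme.Hom.comp_apply, Sigma.ι_desc]]
          rfl
        refine ⟨fun h => Set.mem_iUnion.2 ⟨k, y, (show (g k ≫ W.ι) y ∈ O from by rw [← he k y]; exact h), rfl⟩,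
          fun h => ?_⟩
        obtain ⟨l, y', hy', hyy⟩ := Set.mem_iUnion.1 h
        show W.ι (Sigma.desc g _) ∈ O
        rw [← hyy, he l y']
        exact hy'
      rw [e]
      exact isOpen_iUnion fun k => (Sigma.ι A k).isOpenEmbedding.isOpenMap _ (h _ _ (hg k))
    exact ⟨W.ι '' (W.ι ⁻¹' O), Set.image_preimage_subset _ _, W.ι.isOpenEmbedding.isOpenMap _ ho,
      ⟨w, hwW⟩, hw, rfl⟩

theorem hTopology_le : HTop.hTopology.{u} ≤ topology := by
  rw [Precoverage.toGrothendieck_le_iff_le_toPrecoverage]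
  intro T R hR
  obtain ⟨ι, Y, g, rfl⟩ := Presieve.exists_eq_ofArrows R
  rw [GrothendieckTopology.mem_toPrecoverage_iff]
  exact good_of_isVCover ⟨ι, Y, g⟩ ((HTop.presieve₀_mem_hPrecoverage_iff ⟨ι, Y, g⟩).1 hR).2

theorem phTopology_le : HTop.phTopology.{u} ≤ topology := by
  rw [Precoverage.toGrothendieck_le_iff_le_toPrecoverage]
  intro T R hR
  obtain ⟨ι, Y, g, rfl⟩ := Presieve.exists_eq_ofArrows R
  rw [GrothendieckTopology.mem_toPrecoverage_iff]
  exact good_of_isVCover ⟨ι, Y, g⟩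
    (HTop16.HSheaf.isVCover_of_isPhCover ((HTop.presieve₀_mem_phPrecoverage_iff ⟨ι, Y, g⟩).1 hR))

end Groth.Agent.Desc19b.SubmTop
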