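import Groth.Agent.Et18.H0Lift.FamilyDescent
import Groth.Agent.Et18.Fppf.SectionSheaf
import Groth.Agent.Desc19b.SubmTop.Topology

/-!
# Descent of sections of inverse images of étale sheaves along universally submersive families
-/

set_option autoImplicit false
set_option backward.isDefEq.respectTransparency.types false
set_option backward.isDefEq.respectTransparency false
set_option linter.all false

universe u

open CategoryTheory CategoryTheory.Limits AlgebraicGeometry Opposite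
open Groth.Agent.Et18 Groth.Agent.Et18.H0Lift

namespace Groth.Agent.Desc19b.SubmTop

variable {X T : Scheme.{u}} {F : EtCoh.Ab X} (f : T ⟶ X)

variable {ι : Type*} {S : ι → Scheme.{u}} (g : ∀ i, S i ⟶ T) {fi : ∀ i, S i ⟶ X}
  (hfi : ∀ i, g i ≫ f = fi i)

/-- Sections over an fpqc family whose germs agree glue. -/
theorem exists_descend_submersive (hsurj : ∀ y : T, ∃ i, y ∈ Set.range (g i))
    (hq : ∀ (Z : Scheme.{u}) (z : Z ⟶ T) (O : Set Z),
      (∀ i (P : Scheme.{u}) (p : P ⟶ Z) (k : P ⟶ S i), p ≫ z = k ≫ g i → IsOpen (p ⁻¹' O)) → IsOpen O)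
    (hfi : ∀ i, g i ≫ f = fi i) (σ : ∀ i, EtCoh.sect ((EtCoh.pull (fi i)).obj F) (EtCoh.top (S i)))
    (hc : ∀ i j (Ω : Type u) [Field Ω] [IsSepClosed Ω] (η : Spec (CommRingCat.of Ω) ⟶ X)
      (ξ₁ : FibrePts (fi i) η) (ξ₂ : FibrePts (fi j) η) (e : (EtCoh.stalk η).obj F),
      ξ₁.1 ≫ g i = ξ₂.1 ≫ g j → HasGerm (σ i) ξ₁ e → HasGerm (σ j) ξ₂ e) :
    ∃ s : EtCoh.sect ((EtCoh.pull f).obj F) (EtCoh.top T),
      ∀ i, pullSec (g i) f F (hfi i) s = σ i := by
  let M : ∀ i (V : X.Etale), ((EtCoh.bc (fi i)).obj V).left ⟶ ((EtCoh.bc f).obj V).left := fun i V =>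
    pullback.lift (EtShriek.prV (fi i) V) (((EtCoh.bc (fi i)).obj V).hom ≫ g i)
      ((pullback.condition (f := V.hom) (g := fi i)).trans
        ((congrArg (((EtCoh.bc (fi i)).obj V).hom ≫ ·) (hfi i).symm).trans (Category.assoc _ _ _).symm))
  have hM₁ : ∀ i V, M i V ≫ EtShriek.prV f V = EtShriek.prV (fi i) V := fun i V => pullback.lift_fst _ _ _
  have hM₂ : ∀ i V, M i V ≫ ((EtCoh.bc f).obj V).hom = ((EtCoh.bc (fi i)).obj V).hom ≫ g i :=
    fun i V => pullback.lift_snd _ _ _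
  have hloc : ∀ y : T, ∃ (V : X.Etale) (t : EtCoh.sect F V) (O : ((EtCoh.bc f).obj V).left.Opens),
      y ∈ ((EtCoh.bc f).obj V).hom '' (O : Set ((EtCoh.bc f).obj V).left) ∧
      ∀ j (b : ((EtCoh.bc (fi j)).obj V).left), M j V b ∈ O →
        b ∉ EtShriek.sectSupp ((EtCoh.pull (fi j)).obj F) _ (diffAt (fi j) F (σ j) V t) := by
    intro y
    obtain ⟨i, z, rfl⟩ := hsurj y
    obtain ⟨V, t, b, hb, hbD⟩ := exists_local_at (fi i) F (σ i) z
    have hag : ∀ i' j' (b₁ : ((EtCoh.bc (fi i')).obj V).left) (b₂ : ((EtCoh.bc (fi j')).obj V).left),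
        M i' V b₁ = M j' V b₂ →
        b₁ ∉ EtShriek.sectSupp ((EtCoh.pull (fi i')).obj F) _ (diffAt (fi i') F (σ i') V t) →
        b₂ ∉ EtShriek.sectSupp ((EtCoh.pull (fi j')).obj F) _ (diffAt (fi j') F (σ j') V t) :=
      fun i' j' b₁ b₂ he hb₁ => not_mem_supp_of_agree f (g i') (g j') (σ i') (σ j') (hc i' j') V t b₁ b₂
        (M i' V) (M j' V) (hM₁ i' V) (hM₂ i' V) (hM₁ j' V) (hM₂ j' V) he hb₁
    let O : Set ((EtCoh.bc f).obj V).left := {p | ∀ j b₂, M j V b₂ = p →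
      b₂ ∉ EtShriek.sectSupp ((EtCoh.pull (fi j)).obj F) _ (diffAt (fi j) F (σ j) V t)}
    have hO : IsOpen O := by
      refine hq _ ((EtCoh.bc f).obj V).hom O fun j P p k hpk => ?_
      have e : (M j V) ⁻¹' O = (EtShriek.sectSupp ((EtCoh.pull (fi j)).obj F) _
          (diffAt (fi j) F (σ j) V t) : Set _)ᶜ :=
        Set.ext fun b₁ => ⟨fun h => h j b₁ rfl, fun h j' b₂ he => hag j j' b₁ b₂ he.symm h⟩
      have sq : IsPullback (M j V) ((EtCoh.bc (fi j)).obj V).hom ((EtCoh.bc f).obj V).hom (g j) := by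
        refine IsPullback.of_right ?_ (hM₂ j V) (IsPullback.of_hasPullback V.hom f)
        rw [hfi j, show M j V ≫ pullback.fst V.hom f = EtShriek.prV (fi j) V from hM₁ j V]
        exact IsPullback.of_hasPullback V.hom (fi j)
      rw [show p = sq.lift p k hpk ≫ M j V from (sq.lift_fst _ _ _).symm]
      show IsOpen ((sq.lift p k hpk) ⁻¹' ((M j V) ⁻¹' O))
      rw [e]
      exact (isClosed_sectSupp _ _ _).isOpen_compl.preimage (sq.lift p k hpk).continuous
    refine ⟨V, t, ⟨O, hO⟩, ⟨M i V b, fun j b₂ he => hag i j b b₂ he.symm hbD, ?_⟩, fun j b₂ h => h j b₂ rfl⟩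
    exact (congrArg (fun k => k b) (hM₂ i V)).trans (congrArg (g i) hb)
  choose V t O hy hclean using hloc
  let G := (EtCoh.pull f).obj F
  have : ∀ y, Etale ((EtCoh.bc f).obj (V y)).hom := fun y => ((EtCoh.bc f).obj (V y)).prop
  let W : T → T.Etale := fun y => Scheme.Etale.mk ((O y).ι ≫ ((EtCoh.bc f).obj (V y)).hom)
  let a : ∀ y, W y ⟶ (EtCoh.bc f).obj (V y) := fun y => MorphismProperty.Over.homMk (O y).ι rfl
  let tW : ∀ y, EtCoh.sect G (W y) := fun y => G.obj.map (a y).op (uAt f F (V y) (t y))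
  have key : ∀ (y : T) (j : ι) {Ω : Type u} [Field Ω] [IsSepClosed Ω]
      (w : Spec (CommRingCat.of Ω) ⟶ (W y).left) {η : Spec (CommRingCat.of Ω) ⟶ X} (ξ : FibrePts (fi j) η)
      (hw : w ≫ (W y).hom = ξ.1 ≫ g j) (ξT : FibrePts f η) (hT : ξT.1 = w ≫ (W y).hom),
      ∃ e, HasGerm (σ j) ξ e ∧
        gm G ξT.1 (W y) (Over.homMk w hT.symm) (tW y) = toPull f η ξT F e := by
    intro y j Ω _ _ w η ξ hw ξT hT
    obtain ⟨x, hx⟩ : ∃ x : Spec (CommRingCat.of Ω) ⟶ ((EtCoh.bc f).obj (V y)).left, w ≫ (O y).ι = x :=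
      ⟨_, rfl⟩
    have hx' : x ≫ ((EtCoh.bc f).obj (V y)).hom = ξT.1 := by
      rw [← hx, hT, Category.assoc]; rfl
    have hη : (x ≫ EtShriek.prV f (V y)) ≫ (V y).hom = η := by
      rw [Category.assoc]
      refine (congrArg (x ≫ ·) (pullback.condition (f := (V y).hom) (g := f))).trans ?_
      exact (Category.assoc _ _ _).symm.trans ((congrArg (· ≫ f) hx').trans ξT.2)
    let v : (Scheme.pointSmallEtale η).fiber.obj (V y) := Over.homMk (x ≫ EtShriek.prV f (V y)) hη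
    refine ⟨gm F η (V y) v (t y), hasGerm_of_not_mem (σ j) (V y) (t y) ξ v (hclean y j _ ?_), ?_⟩
    · have : (bcLift (fi j) η ξ (V y) v).left ≫ M j (V y) = x := by
        refine pullback.hom_ext ?_ ?_
        · refine (Category.assoc _ _ _).trans ((congrArg (_ ≫ ·) (hM₁ j (V y))).trans ?_)
          exact pullback.lift_fst _ _ _
        · refine (Category.assoc _ _ _).trans ((congrArg (_ ≫ ·) (hM₂ j (V y))).trans ?_)
          refine (Category.assoc _ _ _).symm.trans ((congrArg (· ≫ g j) (pullback.lift_snd _ _ _)).trans ?_)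
          exact hw.symm.trans (hT.symm.trans hx'.symm)
      let k : Spec (CommRingCat.of Ω) ⟶ ((EtCoh.bc (fi j)).obj (V y)).left := (bcLift (fi j) η ξ (V y) v).left
      have hk : k ≫ M j (V y) = x := this
      change M j (V y) (k default) ∈ O y
      rw [← Scheme.Hom.comp_apply, hk, ← hx]
      exact (w default).2
    · refine (gm_map G ξT.1 (a y) _ _).trans (Eq.trans ?_ (gm_unit f ξT F (V y) v (t y)))
      refine congrArg (fun k => gm G ξT.1 _ k _) (Over.OverMorphism.ext (pullback.hom_ext ?_ ?_))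
      · refine (congrArg (· ≫ pullback.fst (V y).hom f) hx).trans ?_
        exact (pullback.lift_fst _ _ _).symm
      · refine (congrArg (· ≫ pullback.snd (V y).hom f) hx).trans ?_
        exact hx'.trans (pullback.lift_snd _ _ _).symm
  obtain ⟨s, hs⟩ := exists_glue_cover (F := G) (EtCoh.top T) (fun y : ULift.{u + 1} T => W y.down)
    (fun y => (EtCore.topIsTerminal T).from _)
    (fun y => ⟨⟨y⟩, by
      obtain ⟨x, hx, e⟩ := hy y
      refine ⟨(⟨x, hx⟩ : (O y : Scheme.{u})), Eq.trans ?_ e⟩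
      exact congrArg (fun k => k (⟨x, hx⟩ : (O y : Scheme.{u})))
        ((Category.comp_id _).symm.trans (Over.w ((EtCore.topIsTerminal T).from (W y)).hom))⟩)
    (fun y => tW y.down) (fun k l R gk gl _ r hr => by
      obtain ⟨j, z, hz⟩ := hsurj (R.hom r)
      obtain ⟨c, hc₁, -⟩ := Scheme.Pullback.exists_preimage_pullback (f := R.hom) (g := g j) r z hz.symm
      obtain ⟨ρ, ζ, hρ, hr'⟩ : ∃ (ρ : Spec (CommRingCat.of (AlgebraicClosure ((pullback R.hom (g j)).residueField c))) ⟶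
          R.left) (ζ : Spec (CommRingCat.of _) ⟶ S j), ρ ≫ R.hom = ζ ≫ g j ∧ ρ default = r := by
        refine ⟨algPoint _ c ≫ pullback.fst _ _, algPoint _ c ≫ pullback.snd _ _, ?_, ?_⟩
        · simp only [Category.assoc, pullback.condition]
        · rw [Scheme.Hom.comp_apply, algPoint_default]; exact hc₁
      have hwk : (ρ ≫ gk.left) ≫ (W k.down).hom = ρ ≫ R.hom :=
        (Category.assoc _ _ _).trans (congrArg (ρ ≫ ·) (Over.w gk.hom))
      have hwl : (ρ ≫ gl.left) ≫ (W l.down).hom = ρ ≫ R.hom :=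
        (Category.assoc _ _ _).trans (congrArg (ρ ≫ ·) (Over.w gl.hom))
      have hζ : ζ ≫ fi j = (ρ ≫ R.hom) ≫ f := by rw [hρ, Category.assoc, hfi]
      let ξ : FibrePts (fi j) ((ρ ≫ R.hom) ≫ f) := ⟨ζ, hζ⟩
      let ξT : FibrePts f ((ρ ≫ R.hom) ≫ f) := ⟨ρ ≫ R.hom, rfl⟩
      obtain ⟨e₁, he₁, q₁⟩ := key k.down j (ρ ≫ gk.left) ξ (hwk.trans hρ) ξT hwk.symm
      obtain ⟨e₂, he₂, q₂⟩ := key l.down j (ρ ≫ gl.left) ξ (hwl.trans hρ) ξT hwl.symm
      obtain rfl := he₁.unique he₂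
      let v : (Scheme.pointSmallEtale ξT.1).fiber.obj R := Over.homMk ρ rfl
      have hv : fiberPt v = r := hr'
      rw [← hv] at hr
      exact (gm_eq_zero_iff G ξT.1 R v _).1 ((map_sub _ _ _).trans (sub_eq_zero.2
        ((gm_map G ξT.1 gk v _).trans (q₁.trans (q₂.symm.trans (gm_map G ξT.1 gl v _).symm))))) hr)
  refine ⟨s, fun j => eq_of_hasGerm _ _ fun z => ?_⟩
  obtain ⟨x, hx, e⟩ := hy (g j z)
  let ζ := algPoint (S j) z
  obtain ⟨w, hw, -⟩ := Scheme.exists_fac_of_etale_of_isSepClosed (W (g j z)).hom (ζ ≫ g j)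
    (⟨x, hx⟩ : (O (g j z) : Scheme.{u})) (by
      refine Eq.trans e ?_
      change g j z = g j (ζ default)
      rw [algPoint_default])
  let ξT : FibrePts f ((ζ ≫ g j) ≫ f) := ⟨ζ ≫ g j, rfl⟩
  let ξ : FibrePts (fi j) ((ζ ≫ g j) ≫ f) := ⟨ζ, by rw [Category.assoc, hfi]⟩
  obtain ⟨e', he', q⟩ := key (g j z) j w ξ hw ξT hw.symm
  refine ⟨_, inferInstance, inferInstance, _, ξ, e', algPoint_default _ z, ?_, he'⟩
  refine hasGerm_pullSec (g j) (hfi j) ξ ξT rfl ?_
  refine q.symm.trans ((congrArg (gm G ξT.1 _ _) (hs ⟨g j z⟩).symm).trans ((gm_map G ξT.1 _ _ s).trans ?_))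
  exact congrArg (fun k => gm G ξT.1 _ k s) (fibre_eq (EtCoh.top T) _ _)

end Groth.Agent.Desc19b.SubmTop
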