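import Groth.Agent.Desc19b.SubmTop.Descend
import Groth.Agent.Et18.Fppf.SectionSheaf

/-!
# The sheaf of sections of the inverse images is a sheaf for the submersive topology
-/

set_option autoImplicit false
set_option backward.isDefEq.respectTransparency.types false
set_option backward.isDefEq.respectTransparency false
set_option linter.all false

universe u

open CategoryTheory CategoryTheory.Limits AlgebraicGeometry Opposite
open Groth.Agent.Et18 Groth.Agent.Et18.H0Lift Groth.Agent.Et18.Fppf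

namespace Groth.Agent.Desc19b.SubmTop

variable {X : Scheme.{u}} {F : EtCoh.Ab X}

variable (F) in
theorem isSheaf_subm_sectPresheaf : Presheaf.IsSheaf (topology.over X) (sectPresheaf F) := by
  rw [Presheaf.isSheaf_iff_isSheaf_forget _ _ (forget AddCommGrpCat.{u + 1}),
    CategoryTheory.isSheaf_iff_isSheaf_of_type]
  intro T S hS
  rw [GrothendieckTopology.mem_over_iff] at hS
  let ι := Σ P : Scheme.{u}, { p : P ⟶ T.left // (Sieve.overEquiv T S).arrows p }
  let Y : ι → Scheme.{u} := fun i => i.1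
  let g : ∀ i : ι, Y i ⟶ T.left := fun i => i.2.1
  have hsurj : ∀ y, ∃ i, y ∈ Set.range (g i) := fun y => by
    obtain ⟨P, p, hp, hy⟩ := hS.surj T.left (𝟙 _) y
    exact ⟨⟨P, p, by simpa using hp⟩, hy⟩
  have hq : ∀ (Z : Scheme.{u}) (z : Z ⟶ T.left) (O : Set Z),
      (∀ i (P : Scheme.{u}) (p : P ⟶ Z) (k : P ⟶ Y i), p ≫ z = k ≫ g i → IsOpen (p ⁻¹' O)) → IsOpen O :=
    fun Z z O h => hS.isOpen Z z O fun P p hp => h ⟨P, p ≫ z, hp⟩ P p (𝟙 P) (Category.id_comp _).symm
  let a : ∀ i, Over.mk (g i ≫ T.hom) ⟶ T := fun i => Over.homMk (g i)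
  have ha : ∀ i, S (a i) := fun i =>
    (Sieve.overEquiv_iff S (g i)).1 i.2.2
  have hsep : ∀ σ σ' : GSect F T, (∀ i, res (a i) σ = res (a i) σ') → σ = σ' := fun σ σ' h => by
    refine eq_of_hasGerm σ σ' fun y => ?_
    obtain ⟨i, z, hz⟩ := hsurj y
    let ζ := algPoint (Y i) z
    let ξ' : FibrePts (Over.mk (g i ≫ T.hom)).hom (ζ ≫ g i ≫ T.hom) := ⟨ζ, rfl⟩
    let ξ : FibrePts T.hom (ζ ≫ g i ≫ T.hom) := ⟨ζ ≫ g i, Category.assoc _ _ _⟩
    obtain ⟨e, he⟩ := exists_hasGerm σ ξ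
    obtain ⟨e', he'⟩ := exists_hasGerm σ' ξ
    have := hasGerm_res (a i) ξ' ξ rfl he
    rw [h i] at this
    obtain rfl := this.unique (hasGerm_res (a i) ξ' ξ rfl he')
    refine ⟨_, inferInstance, inferInstance, _, ξ, e, ?_, he, he'⟩
    change g i (ζ default) = y
    rw [algPoint_default, hz]
  intro x hx
  refine existsUnique_of_exists_of_unique ?_ ?_
  · obtain ⟨s, hs⟩ := exists_descend_submersive T.hom (fi := fun i => g i ≫ T.hom) g hsurj hq (fun i => rfl)
      (fun i => (x (a i) (ha i) : GSect F (Over.mk (g i ≫ T.hom)))) (fun i j Ω _ _ η ξ₁ ξ₂ e hξ he => by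
      let P := Over.mk (ξ₁.1 ≫ g i ≫ T.hom)
      let p₁ : P ⟶ Over.mk (g i ≫ T.hom) := Over.homMk ξ₁.1
      let p₂ : P ⟶ Over.mk (g j ≫ T.hom) := Over.homMk ξ₂.1 (by
        change ξ₂.1 ≫ g j ≫ T.hom = ξ₁.1 ≫ g i ≫ T.hom
        exact ξ₂.2.trans ξ₁.2.symm)
      have hc := hx p₁ p₂ (ha i) (ha j) (Over.OverMorphism.ext hξ)
      let ξ₀ : FibrePts P.hom η := ⟨𝟙 _, (Category.id_comp _).trans ξ₁.2⟩
      obtain ⟨e', he'⟩ := exists_hasGerm (x (a j) (ha j) : GSect F (Over.mk (g j ≫ T.hom))) ξ₂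
      have h₁ := hasGerm_res p₁ ξ₀ ξ₁ (Category.id_comp _) he
      have h₂ := hasGerm_res p₂ ξ₀ ξ₂ (Category.id_comp _) he'
      have hc' : res p₁ (x (a i) (ha i) : GSect F (Over.mk (g i ≫ T.hom))) =
          res p₂ (x (a j) (ha j) : GSect F (Over.mk (g j ≫ T.hom))) := hc
      rw [hc'] at h₁
      rwa [h₁.unique h₂])
    refine ⟨s, fun V q hq => ?_⟩
    refine ext_germs fun Ω _ _ η ξ e he => ?_
    let ξT : FibrePts T.hom η := ⟨ξ.1 ≫ q.left, by rw [Category.assoc, Over.w q]; exact ξ.2⟩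
    obtain ⟨e₀, he₀⟩ := exists_hasGerm s ξT
    obtain rfl := he.unique (hasGerm_res q ξ ξT rfl he₀)
    -- compare on the pullback of the cover to `V`
    obtain ⟨i, z, hz⟩ := hsurj (q.left (ξ.1 default))
    obtain ⟨c, hc₁, -⟩ := Scheme.Pullback.exists_preimage_pullback (f := q.left) (g := g i) (ξ.1 default) z hz.symm
    obtain ⟨e', he'⟩ := exists_hasGerm (x q hq : GSect F V) ξ
    suffices e' = e by subst this; exact he'
    let P := Over.mk (pullback.fst q.left (g i) ≫ V.hom)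
    let p₁ : P ⟶ V := Over.homMk (pullback.fst q.left (g i))
    let p₂ : P ⟶ Over.mk (g i ≫ T.hom) := Over.homMk (pullback.snd q.left (g i)) (by
      change pullback.snd q.left (g i) ≫ g i ≫ T.hom = pullback.fst q.left (g i) ≫ V.hom
      rw [← Category.assoc, ← pullback.condition, Category.assoc, Over.w q])
    have hc := hx p₁ p₂ hq (ha i) (Over.OverMorphism.ext pullback.condition)
    have hc' : res p₁ (x q hq : GSect F V) = res p₂ (x (a i) (ha i) : GSect F (Over.mk (g i ≫ T.hom))) := hc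
    obtain ⟨ρ, hρ⟩ : ∃ ρ : Spec (CommRingCat.of (AlgebraicClosure ((pullback q.left (g i)).residueField c))) ⟶
        pullback q.left (g i), ρ default = c := ⟨algPoint _ c, algPoint_default _ c⟩
    have hd : fiberPt (topPt ξ.1) ∉ EtShriek.sectSupp ((EtCoh.pull V.hom).obj F) (EtCoh.top V.left)
        (res q s - show ToType (GSect F V) from x q hq) := by
      let ξP : FibrePts P.hom (ρ ≫ P.hom) := ⟨ρ, rfl⟩
      let ξV : FibrePts V.hom (ρ ≫ P.hom) := ⟨ρ ≫ pullback.fst q.left (g i), Category.assoc _ _ _⟩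
      let ξi : FibrePts (Over.mk (g i ≫ T.hom)).hom (ρ ≫ P.hom) :=
        ⟨ρ ≫ pullback.snd q.left (g i), (Category.assoc _ _ _).trans (congrArg (ρ ≫ ·) (Over.w p₂))⟩
      let ξT' : FibrePts T.hom (ρ ≫ P.hom) :=
        ⟨ξV.1 ≫ q.left, (Category.assoc _ _ _).trans ((congrArg (ξV.1 ≫ ·) (Over.w q)).trans ξV.2)⟩
      obtain ⟨e₁, h₁⟩ := exists_hasGerm s ξT'
      obtain ⟨e₂, h₂⟩ := exists_hasGerm (x q hq : GSect F V) ξV
      have k₁ := hasGerm_res q ξV ξT' rfl h₁
      have k₂ := hasGerm_res p₁ ξP ξV rfl h₂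
      rw [hc'] at k₂
      have k₃ : HasGerm (res (a i) s) ξi e₁ := hasGerm_res (a i) ξi ξT'
        (show (ρ ≫ pullback.snd q.left (g i)) ≫ g i = (ρ ≫ pullback.fst q.left (g i)) ≫ q.left by
          rw [Category.assoc, Category.assoc, pullback.condition]) h₁
      rw [show res (a i) s = (x (a i) (ha i) : GSect F (Over.mk (g i ≫ T.hom))) from hs i] at k₃
      obtain rfl := k₂.unique (hasGerm_res p₂ ξP ξi rfl k₃)
      rw [show fiberPt (topPt ξ.1) = fiberPt (topPt ξV.1) from by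
        change ξ.1 default = pullback.fst q.left (g i) (ρ default)
        rw [hρ, hc₁]]
      exact (gm_eq_zero_iff _ ξV.1 _ (topPt ξV.1) _).1
        ((map_sub _ _ _).trans (sub_eq_zero.2 (k₁.symm.trans h₂)))
    refine (bijective_toPull V.hom ξ F).1 (he'.trans (Eq.trans ?_ (hasGerm_res q ξ ξT rfl he₀).symm))
    exact (sub_eq_zero.1 ((map_sub _ _ _).symm.trans
      ((gm_eq_zero_iff _ ξ.1 _ (topPt ξ.1) _).2 hd))).symm
  · intro s s' hs hs'
    exact hsep s s' fun i => (hs (a i) (ha i)).trans (hs' (a i) (ha i)).symm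

end Groth.Agent.Desc19b.SubmTop
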